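import Mathlib
import Groth.Prelude.Def_GLin
import Groth.Prelude.Def_W4c1tameactTame
import Groth.Prelude.Def_ComodTens
import Groth.Agent.Hopf.Comod
import Groth.Agent.Hopf.Integral
import Groth.Agent.Hopf.Reductive

/-! Averaging over linearly reductive groups: finiteness of invariants of equivariant algebras. -/

set_option autoImplicit false

universe u v w w'

open TensorProduct
open Groth

noncomputable section

namespace Groth.LunaLib

variable {k : Type u} [Field k] {H : Type v} [CommRing H] [HopfAlgebra k H]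

/-- the averaging functional attached to an integral -/
def avgFun (α₀ : H →ₗ[k] k) : H →ₗ[k] k := α₀ ∘ₗ HopfAlgebraStruct.antipode (R := k) (A := H)

theorem avgFun_one {α₀ : H →ₗ[k] k} (h1 : α₀ 1 = 1) : avgFun α₀ 1 = 1 := by
  simp [avgFun, h1]

variable {B : Type w} [CommRing B] [Algebra k B] [HopfRep.Comod k H B] [GLin.IsCoactAlg k H B]
  {M : Type w'} [AddCommGroup M] [Module k M] [Module B M] [IsScalarTower k B M]
  [HopfRep.Comod k H M] [TameAct.IsHopfMod k H B M]

theorem avg_mem (α₀ : H →ₗ[k] k)
    (hα₀ : @Hoch.IsComodHom k _ H _ _ _ H _ _ _ k _ _ (HopfRep.Comod.trivial k H k) α₀)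
    (B : Type w) [CommRing B] [Algebra k B] [HopfRep.Comod k H B] [GLin.IsCoactAlg k H B]
    [Module B M] [IsScalarTower k B M] [TameAct.IsHopfMod k H B M] (m : M) :
    ComodLib.op (avgFun α₀) m ∈ HopfRep.fixedPts k H M := by
  have h : TameAct.reynolds k H B M (Algebra.linearMap k B ∘ₗ α₀) m = ComodLib.op (avgFun α₀) m := by
    rw [ComodLib.reynolds_eq, ComodLib.op_apply]
    generalize HopfRep.Comod.coact (k := k) (A := H) m = z
    induction z using TensorProduct.induction_on with
    | zero => simp
    | tmul p q => simp [avgFun]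
    | add p q hp hq => simp only [map_add, hp, hq]
  rw [← h]
  exact ComodLib.reynolds_mem_fixedPts (ComodLib.isComodHom_algebraMap_comp α₀ hα₀) m

theorem op_fixed {x : M} (hx : x ∈ HopfRep.fixedPts k H M) (φ : H →ₗ[k] k) :
    ComodLib.op φ x = φ 1 • x := by
  change HopfRep.Comod.coact (k := k) (A := H) x = x ⊗ₜ[k] (1 : H) at hx
  rw [ComodLib.op_apply, hx, ComodLib.slice_tmul]

theorem op_smul_fixed (b : B) {x : M} (hx : x ∈ HopfRep.fixedPts k H M) (φ : H →ₗ[k] k) :
    ComodLib.op φ (b • x) = ComodLib.op φ b • x := by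
  rw [ComodLib.op_apply, ComodLib.coact_smul_fixed b hx, ComodLib.slice_rTensor, ← ComodLib.op_apply]
  rfl

theorem op_mem {U : Submodule k M} (hU : HopfRep.IsSubcomod (k := k) (A := H) U) {x : M} (hx : x ∈ U)
    (φ : H →ₗ[k] k) : ComodLib.op φ x ∈ U :=
  (ComodLib.isSubcomod_iff U).1 hU φ x hx

variable {C : Type w'} [CommRing C] [Algebra k C] [HopfRep.Comod k H C] [GLin.IsCoactAlg k H C]

theorem isSubcomod_mul {U U' : Submodule k C} (h : HopfRep.IsSubcomod (k := k) (A := H) U)
    (h' : HopfRep.IsSubcomod (k := k) (A := H) U') : HopfRep.IsSubcomod (k := k) (A := H) (U * U') := by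
  intro w hw
  refine Submodule.mul_induction_on hw (fun a ha b hb => ?_) fun a b ha hb => ?_
  · obtain ⟨p, hp⟩ := h a ha
    obtain ⟨q, hq⟩ := h' b hb
    rw [GLin.IsCoactAlg.coact_mul, ← hp, ← hq]
    clear hp hq
    induction p using TensorProduct.induction_on with
    | zero => simp
    | add s t hs ht => rw [map_add, add_mul]; exact add_mem hs ht
    | tmul s t =>
      induction q using TensorProduct.induction_on with
      | zero => simp
      | add s' t' hs' ht' => rw [map_add, mul_add]; exact add_mem hs' ht'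
      | tmul s' t' =>
        exact ⟨⟨s.1 * s'.1, Submodule.mul_mem_mul s.2 s'.2⟩ ⊗ₜ (t * t'), by simp⟩
  · rw [map_add]; exact add_mem ha hb

theorem isSubcomod_pow {U : Submodule k C} (h : HopfRep.IsSubcomod (k := k) (A := H) U) :
    ∀ n : ℕ, HopfRep.IsSubcomod (k := k) (A := H) (U ^ n) := by
  intro n
  induction n with
  | zero =>
    rw [pow_zero]
    intro w hw
    obtain ⟨c, rfl⟩ := Submodule.mem_one.1 hw
    exact ⟨(⟨algebraMap k C c, hw⟩ : (1 : Submodule k C)) ⊗ₜ 1, (ComodLib.coact_algebraMap c).symm⟩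
  | succ n ih => rw [pow_succ]; exact isSubcomod_mul ih h

open Polynomial in
theorem exists_finset_invariants_adjoin (hG : HopfRep.IsLinearlyReductive k H)
    (A : Type w) [CommRing A] [Algebra k A] [IsNoetherianRing A] [HopfRep.Comod k H A] [GLin.IsCoactAlg k H A]
    [Algebra A C] [IsScalarTower k A C] [Algebra.FiniteType A C]
    (hAC : Hoch.IsComodHom H (IsScalarTower.toAlgHom k A C).toLinearMap) :
    ∃ s : Finset C, GLin.invariants k H C =
      Algebra.adjoin k (⇑(algebraMap A C) '' ↑(GLin.invariants k H A) ∪ ↑s) := by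
  classical
  obtain ⟨α₀, hα₀, h1⟩ := ComodLib.isLinearlyReductive_iff_integral.1 hG
  haveI := ComodLib.isHopfMod_self (k := k) (A := H) (B := C)
  haveI := ComodLib.isHopfMod_self (k := k) (A := H) (B := A)
  set φ := avgFun α₀
  have hφ1 : φ 1 = 1 := avgFun_one h1
  set f : A →ₗ[k] C := (IsScalarTower.toAlgHom k A C).toLinearMap
  have hf : ∀ a, f a = algebraMap A C a := fun _ => rfl
  let R0 : Submodule k C := LinearMap.range f
  have hR0 : HopfRep.IsSubcomod (k := k) (A := H) R0 := ComodLib.isSubcomod_range hAC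
  obtain ⟨g, hg⟩ := (Algebra.FiniteType.out : (⊤ : Subalgebra A C).FG)
  obtain ⟨V, hfin, hgV, hV⟩ := ComodLib.exists_finite_subcomod_span (k := k) (A := H)
    (s := insert 1 (g : Set C)) (g.finite_toSet.insert 1)
  have h1V : (1 : C) ∈ V := hgV (Set.mem_insert _ _)
  obtain ⟨vs, hvs⟩ := Module.Finite.iff_fg.1 hfin
  let P : ℕ → Submodule k C := fun n => R0 * V ^ n
  have hPsub : ∀ n, HopfRep.IsSubcomod (k := k) (A := H) (P n) := fun n =>
    isSubcomod_mul hR0 (isSubcomod_pow hV n)
  have hR00 : R0 * R0 ≤ R0 := Submodule.mul_le.2 fun a ha b hb => by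
    obtain ⟨x, rfl⟩ := ha; obtain ⟨y, rfl⟩ := hb
    exact ⟨x * y, by simp [hf]⟩
  have h1R0 : (1 : C) ∈ R0 := ⟨1, by simp [hf]⟩
  have hPmul : ∀ m n x y, x ∈ P m → y ∈ P n → x * y ∈ P (m + n) := fun m n x y hx hy => by
    have h := Submodule.mul_mem_mul hx hy
    simp only [P] at h ⊢
    rw [mul_mul_mul_comm, ← pow_add] at h
    exact mul_le_mul' hR00 le_rfl h
  have hP0 : ∀ a, algebraMap A C a ∈ P 0 := fun a => by
    simp only [P, pow_zero, mul_one]; exact ⟨a, rfl⟩
  let T : Finset C[X] := vs.image fun v => Polynomial.C v * Polynomial.X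
  let S : Subalgebra A C[X] := Algebra.adjoin A (T : Set C[X])
  have hnoeth : IsNoetherianRing S := by
    have : Algebra.FiniteType A S := (Subalgebra.fg_iff_finiteType _).1 (Subalgebra.fg_adjoin_finset T)
    exact Algebra.FiniteType.isNoetherianRing A S
  have hcoeff : ∀ p ∈ S, ∀ n, Polynomial.coeff p n ∈ P n := by
    intro p hp
    induction hp using Algebra.adjoin_induction with
    | mem x hx =>
      obtain ⟨v, hv, rfl⟩ := Finset.mem_image.1 hx
      intro n
      rw [Polynomial.coeff_C_mul_X]
      split_ifs with h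
      · subst h
        have : v ∈ V ^ 1 := by rw [pow_one, ← hvs]; exact Submodule.subset_span hv
        simpa [P] using Submodule.mul_mem_mul h1R0 this
      · exact zero_mem _
    | algebraMap r =>
      intro n
      rw [Polynomial.algebraMap_apply, Polynomial.coeff_C]
      split_ifs with h
      · subst h; exact hP0 r
      · exact zero_mem _
    | add x y _ _ hx hy => intro n; rw [Polynomial.coeff_add]; exact add_mem (hx n) (hy n)
    | mul x y _ _ hx hy =>
      intro n
      rw [Polynomial.coeff_mul]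
      refine sum_mem fun ij hij => ?_
      rw [← Finset.HasAntidiagonal.mem_antidiagonal.1 hij]
      exact hPmul _ _ _ _ (hx _) (hy _)
  have hCmem : ∀ a : A, Polynomial.C (algebraMap A C a) ∈ S := fun a => S.algebraMap_mem a
  have hkC : ∀ c : k, Polynomial.C (algebraMap k C c) ∈ S := fun c => by
    rw [IsScalarTower.algebraMap_apply k A C]; exact hCmem _
  have hmonoV : ∀ n q, q ∈ V ^ n → Polynomial.C q * Polynomial.X ^ n ∈ S := by
    intro n
    induction n with
    | zero =>
      intro q hq
      rw [pow_zero] at hq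
      obtain ⟨c, rfl⟩ := Submodule.mem_one.1 hq
      rw [pow_zero, mul_one]
      exact hkC c
    | succ n ih =>
      intro q hq
      rw [pow_succ] at hq
      refine Submodule.mul_induction_on hq (fun a ha b hb => ?_) fun a b ha hb => ?_
      · have hb' : Polynomial.C b * Polynomial.X ∈ S := by
          rw [← hvs] at hb
          induction hb using Submodule.span_induction with
          | mem x hx => exact Algebra.subset_adjoin (Finset.mem_image_of_mem _ hx)
          | zero => simp
          | add x y _ _ hx hy => rw [map_add, add_mul]; exact add_mem hx hy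
          | smul c x _ hx => rw [Algebra.smul_def, map_mul, mul_assoc]; exact mul_mem (hkC c) hx
        have := mul_mem (ih a ha) hb'
        convert this using 1
        rw [map_mul, pow_succ]; ring
      · rw [map_add, add_mul]; exact add_mem ha hb
  have hmono : ∀ n q, q ∈ P n → Polynomial.C q * Polynomial.X ^ n ∈ S := by
    intro n q hq
    refine Submodule.mul_induction_on hq (fun a ha b hb => ?_) fun a b ha hb => ?_
    · obtain ⟨x, rfl⟩ := ha
      rw [map_mul, mul_assoc]
      exact mul_mem (hCmem x) (hmonoV n b hb)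
    · rw [map_add, add_mul]; exact add_mem ha hb
  let gens : Set S := {p | ∃ (n : ℕ) (q : C), 0 < n ∧ q ∈ P n ∧ q ∈ HopfRep.fixedPts k H C ∧
    (p : C[X]) = Polynomial.C q * Polynomial.X ^ n}
  obtain ⟨t, ht, hspan⟩ : ∃ t : Finset S, (t : Set S) ⊆ gens ∧ Ideal.span gens = Ideal.span (t : Set S) :=
    (Submodule.fg_span_iff_fg_span_finset_subset _).1 (IsNoetherian.noetherian (Ideal.span gens))
  choose! deg val hpos hval hinv heq using fun (p : S) (hp : p ∈ gens) => hp
  refine ⟨t.image val, le_antisymm ?_ (Algebra.adjoin_le ?_)⟩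
  swap
  · rintro y (⟨a, ha, rfl⟩ | hy)
    · have := LinearMap.congr_fun hAC a
      simp only [LinearMap.comp_apply] at this
      change HopfRep.Comod.coact (k := k) (A := H) (algebraMap A C a) = _
      rw [← hf, this, show HopfRep.Comod.coact (k := k) (A := H) a = a ⊗ₜ[k] (1 : H) from ha,
        LinearMap.rTensor_tmul]
    · obtain ⟨p, hp, rfl⟩ := Finset.mem_image.1 hy
      exact hinv p (ht hp)
  set D := Algebra.adjoin k (⇑(algebraMap A C) '' ↑(GLin.invariants k H A) ∪ ↑(t.image val))
  have havg : ∀ x : C, ComodLib.op φ x ∈ HopfRep.fixedPts k H C := fun x => avg_mem α₀ hα₀ C x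
  have key : ∀ n q, q ∈ P n → q ∈ HopfRep.fixedPts k H C → q ∈ D := by
    intro n
    induction n using Nat.strong_induction_on with
    | _ n ih =>
      intro q hq hqfix
      rcases Nat.eq_zero_or_pos n with rfl | hn
      · simp only [P, pow_zero, mul_one] at hq
        obtain ⟨a, rfl⟩ := hq
        have h := ComodLib.isComodHom_op hAC φ a
        rw [op_fixed hqfix, hφ1, one_smul] at h
        rw [← h]
        exact Algebra.subset_adjoin (Or.inl ⟨_, avg_mem α₀ hα₀ A a, rfl⟩)
      have hmem : (⟨_, hmono n q hq⟩ : S) ∈ Ideal.span (t : Set S) :=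
        hspan ▸ Ideal.subset_span ⟨n, q, hn, hq, hqfix, rfl⟩
      obtain ⟨c, -, hc⟩ := Submodule.mem_span_finset.1 hmem
      have hc' := congrArg (fun p : S => Polynomial.coeff (p : C[X]) n) hc
      simp only [Polynomial.coeff_C_mul, Polynomial.coeff_X_pow, if_pos, mul_one,
        AddSubmonoidClass.coe_finsetSum, Polynomial.finsetSum_coeff, smul_eq_mul, MulMemClass.coe_mul] at hc'
      let r : S → C := fun p => if deg p ≤ n then Polynomial.coeff (c p : C[X]) (n - deg p) else 0
      have hr : ∑ p ∈ t, r p * val p = q := by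
        refine (Finset.sum_congr rfl fun p hp => ?_).trans hc'
        rw [heq p (ht hp), ← mul_assoc, Polynomial.coeff_mul_X_pow']
        simp only [r]
        split_ifs with h
        · rw [Polynomial.coeff_mul_C]
        · rw [zero_mul]
      have h2 : q = ∑ p ∈ t, ComodLib.op φ (r p) * val p := by
        conv_lhs => rw [← one_smul k q, ← hφ1, ← op_fixed hqfix φ, ← hr, map_sum]
        refine Finset.sum_congr rfl fun p hp => ?_
        exact op_smul_fixed (B := C) (r p) (hinv p (ht hp)) φ
      rw [h2]
      refine Subalgebra.sum_mem _ fun p hp => Subalgebra.mul_mem _ ?_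
        (Algebra.subset_adjoin (Or.inr (Finset.mem_image_of_mem _ hp)))
      simp only [r]
      split_ifs with h
      · exact ih (n - deg p) (by have := hpos p (ht hp); omega) _
          (op_mem (hPsub _) (hcoeff _ (c p).2 _) φ) (havg _)
      · rw [map_zero]; exact Subalgebra.zero_mem _
  intro x hx
  have hVmono : ∀ n, V ^ n ≤ V ^ (n + 1) := fun n x hx => by
    simpa [pow_succ] using Submodule.mul_mem_mul hx h1V
  have hPmono : Monotone P := monotone_nat_of_le_succ fun n => mul_le_mul' le_rfl (hVmono n)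
  have hex : ∀ x : C, ∃ n, x ∈ P n := by
    intro x
    have : x ∈ Algebra.adjoin A (g : Set C) := hg ▸ Algebra.mem_top
    induction this using Algebra.adjoin_induction with
    | mem x hx =>
      refine ⟨1, ?_⟩
      have : x ∈ V ^ 1 := by rw [pow_one]; exact hgV (Set.mem_insert_of_mem _ hx)
      simpa [P] using Submodule.mul_mem_mul h1R0 this
    | algebraMap r => exact ⟨0, hP0 r⟩
    | add x y _ _ hx hy =>
      obtain ⟨a, ha⟩ := hx
      obtain ⟨b, hb⟩ := hy
      exact ⟨max a b, add_mem (hPmono (le_max_left a b) ha) (hPmono (le_max_right a b) hb)⟩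
    | mul x y _ _ hx hy =>
      obtain ⟨a, ha⟩ := hx
      obtain ⟨b, hb⟩ := hy
      exact ⟨a + b, hPmul _ _ _ _ ha hb⟩
  obtain ⟨n, hn⟩ := hex x
  exact key n x hn hx

end Groth.LunaLib
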